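import Groth.Agent.MultTori.K441.Defs
import Groth.Agent.JacVar.K532.Dict
import Groth.Agent.S0232
import Groth.Agent.Curves.K314.H0One
import Groth.Agent.Etcore.DimBaseChange
import Groth.Agent.VarietyB.ResMap
import Groth.Agent.Variety.K426.GeomPts
import Groth.Agent.Curves.K322.BasePt
import Groth.Agent.Curves.K321.SmoothPid
import Groth.Agent.TFOne.K975.GeoInt
import Groth.Agent.CurvesA.UnitThm
import Groth.Agent.PicF.K246.Basic
import Groth.Agent.Dix.IdealModCartier
import Groth.Agent.S0215
import Groth.Agent.Sga7.H780.JK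
import Mathlib.RingTheory.TensorProduct.Basic

/-!
# Curves over Mordell-Weil fields: the Picard group is finitely generated; a principal affine open

* `PicFG.fg_pic`: the Picard group of a smooth proper geometrically integral curve over a field whose finite
  extensions have the Mordell-Weil property is finitely generated.
* `PidOpen.isPrincipalIdealRing`: functions on an affine open of a curve over which all classes die.
* `PidCurve.exists_pid_of_curve`: RQ-D1 of the plan of `Groth.Agent.MultTori.K441`.
-/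

set_option autoImplicit false

universe u v

namespace Groth.Agent.MultTori.K318.PicFG

open CategoryTheory CategoryTheory.Limits AlgebraicGeometry MonObj MonoidalCategory
  CartesianMonoidalCategory

open Groth.Agent.Grpsch.PicGrp Groth.Agent.Sga7.H732 Groth.Agent.Sga7.H732.Hedge K532.CurvePic K532.Dict
open Groth.Agent.MultTori.K441

/-- A commutative group embedding into a finitely generated commutative group is finitely generated. -/
theorem fg_of_injective {G : Type u} {H : Type v} [CommGroup G] [CommGroup H] [hH : Group.FG H] (i : G →* H)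
    (hi : Function.Injective i) : Group.FG G := by
  have hr : Group.FG i.range := by
    have h1 : AddGroup.FG (Additive H) := inferInstance
    have h2 : Module.Finite ℤ (Additive H) := Module.Finite.iff_addGroup_fg.mpr h1
    have h3 : IsNoetherian ℤ (Additive H) := inferInstance
    rw [Group.fg_iff_subgroup_fg, Subgroup.fg_iff_add_fg]
    have h4 := h3.noetherian (AddSubgroup.toIntSubmodule i.range.toAddSubgroup)
    rw [Submodule.fg_iff_addSubgroup_fg] at h4
    exact h4
  let e : G ≃* i.range := MonoidHom.ofInjective hi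
  exact Group.fg_of_surjective (f := e.symm.toMonoidHom) e.symm.surjective

/-- An extension of a subgroup of `ℤ` by a quotient of a finitely generated group is finitely generated. -/
theorem fg_of_deg {G : Type u} {H : Type v} [CommGroup G] [Group H] [Group.FG H] (i : H →* G) (d : G → ℤ)
    (hd : ∀ a b, d (a * b) = d a + d b) (hker : ∀ g, d g = 0 → ∃ a, i a = g) : Group.FG G := by
  let D : Additive G →+ ℤ :=
    { toFun := fun g => d g.toMul
      map_zero' := by
        have h := hd 1 1
        rw [_root_.mul_one] at h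
        change d 1 = 0
        omega
      map_add' := fun a b => hd _ _ }
  have hD : ∀ g : G, d g = D (Additive.ofMul g) := fun _ => rfl
  obtain ⟨n₀, hn₀⟩ := Int.subgroup_cyclic D.range
  have hmem : n₀ ∈ D.range := by
    rw [hn₀]
    exact AddSubgroup.mem_closure_singleton_self n₀
  obtain ⟨g₀, hg₀⟩ := hmem
  let q : H × Multiplicative ℤ →* G :=
    { toFun := fun x => i x.1 * g₀.toMul ^ x.2.toAdd
      map_one' := by simp
      map_mul' := fun x y => by
        simp only [Prod.fst_mul, Prod.snd_mul, map_mul, toAdd_mul, zpow_add]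
        exact mul_mul_mul_comm _ _ _ _ }
  refine Group.fg_of_surjective (f := q) fun g => ?_
  have h1 : D (Additive.ofMul g) ∈ D.range := ⟨_, rfl⟩
  rw [hn₀, AddSubgroup.mem_closure_singleton] at h1
  obtain ⟨m, hm⟩ := h1
  obtain ⟨a, ha⟩ := hker (g * g₀.toMul ^ (-m)) (by
    rw [hD, ofMul_mul, map_add, ofMul_zpow, map_zsmul]
    change D (Additive.ofMul g) + (-m) • D g₀ = 0
    rw [hg₀, ← hm, neg_smul, add_neg_cancel])
  refine ⟨(a, Multiplicative.ofAdd m), ?_⟩
  change i a * g₀.toMul ^ m = g
  rw [ha, _root_.mul_assoc, ← zpow_add, neg_add_cancel, zpow_zero, _root_.mul_one]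

section

variable {k : Type u} [Field k] {C : Scheme.{u}} {f : C ⟶ Spec (CommRingCat.of k)}
  {σ : Spec (CommRingCat.of k) ⟶ C} {hσ : σ ≫ f = 𝟙 (Spec (CommRingCat.of k))}
  {J : Over (Spec (CommRingCat.of k))} [GrpObj J] {ξ : Pic (PicF.XT f J)} (h : IsJac f σ hσ J ξ)

include h in
theorem mul_comm_hom [QuasiCompact f] [IsSeparated f] (T : Over (Spec (CommRingCat.of k))) (a b : T ⟶ J) :
    a * b = b * a :=
  Abel.cls_injective h T (by rw [map_mul, map_mul, mul_comm])

include h in
/-- The Jacobian is commutative. -/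
theorem isComm [QuasiCompact f] [IsSeparated f] : IsCommMonObj J where
  mul_comm := by
    have h1 := mul_comm_hom h (J ⊗ J) (snd J J) (fst J J)
    rw [Hom.mul_def, Hom.mul_def] at h1
    rw [show lift (fst J J) (snd J J) = 𝟙 (J ⊗ J) by simp, Category.id_comp] at h1
    rw [← h1]
    congr 1

end

/-- The case of a curve with a rational point. -/
theorem fg_pic_of_section (hJK : JK.{u}) {F : Type u} [Field F] (hMW : MW F) (C : Scheme.{u})
    [C.Over (Spec (CommRingCat.of F))] (hC : Curve.IsSmoothProperCurve F C (C ↘ Spec (CommRingCat.of F)))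
    [GeometricallyIntegral (C ↘ Spec (CommRingCat.of F))] (σ : Spec (CommRingCat.of F) ⟶ C)
    (hσ : σ ≫ (C ↘ Spec (CommRingCat.of F)) = 𝟙 _) : Group.FG (Pic C) := by
  obtain ⟨J, _, ξ, hJ1, hJ2, h⟩ := hJK F C _ hC inferInstance σ hσ
  have := hC.1
  have : IsCommMonObj J := isComm h
  have := hMW J
  have hX : IsCurve F C := ⟨hC, K314.H0One.finrank_eq_one_of_geometricallyIntegral F C⟩
  exact fg_of_deg (kcl h) (deg F C) (fun a b => deg_mul hX a b) (fun g hg => exists_kcl hX h hg)

/-- The Picard group of a smooth proper geometrically integral curve over a field whose finite extensions have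
the Mordell-Weil property is finitely generated. -/
theorem fg_pic (hJK : JK.{u}) (F : Type u) [Field F]
    (hMW : ∀ (F' : Type u) [Field F'] [Algebra F F'] [FiniteDimensional F F'], MW F') (C : Scheme.{u})
    [C.Over (Spec (CommRingCat.of F))] (hC : Curve.IsSmoothProperCurve F C (C ↘ Spec (CommRingCat.of F)))
    [GeometricallyIntegral (C ↘ Spec (CommRingCat.of F))] : Group.FG (Pic C) := by
  have hp := hC.1
  have hs := hC.2.1
  have hi := hC.2.2.1
  have hdim := hC.2.2.2
  have hcs : CompactSpace C := (quasiCompact_iff_compactSpace (f := C ↘ Spec (CommRingCat.of F))).mp inferInstance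
  have hqs : QuasiSeparatedSpace C :=
    (quasiSeparated_iff_quasiSeparatedSpace (f := C ↘ Spec (CommRingCat.of F))).mp inferInstance
  obtain ⟨x, -, hx⟩ := IsClosed.exists_closed_singleton (S := (Set.univ : Set C)) isClosed_univ Set.univ_nonempty
  have hfin := (K426.GeomPts.isClosed_iff_finite F C x).1 hx
  let κ : Type u := C.residueField x
  let _ : Algebra F κ := (Curv2.resMap F C x).toAlgebra
  have : FiniteDimensional F κ := hfin
  let w : Spec (CommRingCat.of κ) ⟶ Spec (CommRingCat.of F) := Spec.map (CommRingCat.ofHom (algebraMap F κ))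
  have hw : C.fromSpecResidueField x ≫ (C ↘ Spec (CommRingCat.of F)) = w :=
    (Groth.Agent.VarietyB.ResMap.specMap_resMap F C x).symm
  let C' : Scheme.{u} := pullback (C ↘ Spec (CommRingCat.of F)) w
  let _ : C'.Over (Spec (CommRingCat.of κ)) := ⟨pullback.snd _ _⟩
  have hpb : IsPullback (pullback.fst (C ↘ Spec (CommRingCat.of F)) w) (C' ↘ Spec (CommRingCat.of κ))
    (C ↘ Spec (CommRingCat.of F)) w := IsPullback.of_hasPullback _ _
  have hgi : GeometricallyIntegral (C' ↘ Spec (CommRingCat.of κ)) :=
    MorphismProperty.of_isPullback (P := @GeometricallyIntegral) hpb inferInstance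
  have hC' : Curve.IsSmoothProperCurve κ C' (C' ↘ Spec (CommRingCat.of κ)) := by
    refine ⟨MorphismProperty.of_isPullback (P := @IsProper) hpb inferInstance,
      MorphismProperty.of_isPullback (P := @Smooth) hpb inferInstance, ?_, ?_⟩
    · exact GeometricallyIntegral.geometrically_isIntegral (f := C ↘ Spec (CommRingCat.of F)) (K := κ) _ _ _ hpb
    · rw [← hdim]
      exact Groth.Agent.Etcore.DimBaseChange.topologicalKrullDim_eq (Field.toIsField F) (Field.toIsField κ)
        (C ↘ Spec (CommRingCat.of F)) _ _ _ hpb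
  let σ : Spec (CommRingCat.of κ) ⟶ C' := pullback.lift (C.fromSpecResidueField x) (𝟙 _) (by
    rw [Category.id_comp]; exact hw)
  have hσ : σ ≫ (C' ↘ Spec (CommRingCat.of κ)) = 𝟙 _ := pullback.lift_snd _ _ _
  have hfg := fg_pic_of_section hJK (hMW κ) C' hC' σ hσ
  refine fg_of_injective (pull (pullback.fst (C ↘ Spec (CommRingCat.of F)) w)) ?_
  rw [injective_iff_map_eq_one]
  intro c hc
  have h0 : Module.finrank F (Coh.HH C (Coh.structureModule C) 0) = 1 :=
    K314.H0One.finrank_eq_one_of_geometricallyIntegral F C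
  have hf : Module.Finite F (Coh.HH C (Coh.structureModule C) 0) :=
    Module.finite_of_finrank_pos (by rw [h0]; exact Nat.one_pos)
  induction c using ind with | _ L hL => ?_
  have h1 := Groth.Agent.S0232.result F C hf κ C' _ _ hpb L hL (by
    rw [pull_mk] at hc
    exact (Groth.Agent.Etcore.FibreDeg.isTrivialCl_toCl_iff _).2 hc)
  exact (Groth.Agent.Etcore.FibreDeg.isTrivialCl_toCl_iff _).1 h1

end Groth.Agent.MultTori.K318.PicFG

namespace Groth.Agent.MultTori.K318.PidOpen

open CategoryTheory CategoryTheory.Limits AlgebraicGeometry TensorProduct TopologicalSpace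

open Groth.Agent Groth.Agent.Grpsch.PicGrp Groth.Agent.Fdesc.LocGen Groth.Agent.Dix.IdealModCartier

section Open

variable {X : Scheme.{u}}

theorem pull_eq_one_of_isGen {L : X.Modules} (hL : PicF.IsInvertible L) {U : X.Opens} {s : Γ(L, U)}
    (hs : IsGen s) : pull U.ι (mk L hL) = 1 := by
  rw [pull_mk, mk_eq_one_iff]
  obtain ⟨e⟩ := K246.Basic.nonempty_iso_of_isGen hs
  exact ⟨((Scheme.Modules.restrictFunctorIsoPullback U.ι).app L).symm ≪≫ e⟩

theorem exists_isGen_of_pull {L : X.Modules} (hL : PicF.IsInvertible L) {U : X.Opens}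
    (h : pull U.ι (mk L hL) = 1) : ∃ s : Γ(L, U), IsGen s := by
  rw [pull_mk, mk_eq_one_iff] at h
  obtain ⟨e⟩ := h
  exact K246.Basic.exists_isGen_of_iso ((Scheme.Modules.restrictFunctorIsoPullback U.ι).app L ≪≫ e)

theorem exists_open_finset [IsIntegral X] (S : Finset (Pic X)) :
    ∃ W : X.Opens, genericPoint X ∈ W ∧ ∀ U : X.Opens, U ≤ W → ∀ c ∈ S, pull U.ι c = 1 := by
  classical
  induction S using Finset.induction with
  | empty => exact ⟨⊤, trivial, fun _ _ c hc => absurd hc (Finset.notMem_empty c)⟩
  | insert a S ha ih =>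
    obtain ⟨W, hW, h⟩ := ih
    obtain ⟨L, hL, rfl⟩ := exists_mk a
    obtain ⟨V, e, hV, he⟩ := (isInvertible_iff L).1 hL (genericPoint X)
    refine ⟨W ⊓ V, ⟨hW, hV⟩, fun U hU c hc => ?_⟩
    rcases Finset.mem_insert.1 hc with rfl | hc
    · exact pull_eq_one_of_isGen hL (he.res (hU.trans inf_le_right))
    · exact h U (hU.trans inf_le_left) c hc

/-- If the Picard group is finitely generated, all classes are trivial on a non-empty affine open. -/
theorem exists_open [IsIntegral X] (hfg : Group.FG (Pic X)) :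
    ∃ U : X.affineOpens, genericPoint X ∈ U.1 ∧ ∀ c : Pic X, pull U.1.ι c = 1 := by
  obtain ⟨S, hS⟩ := Group.fg_def.1 hfg
  obtain ⟨W, hW, h⟩ := exists_open_finset S
  obtain ⟨U, hηU, hUW⟩ := exists_affine_mem_le W (genericPoint X) hW
  refine ⟨U, hηU, fun c => ?_⟩
  have h1 : Subgroup.closure (S : Set (Pic X)) ≤ (pull U.1.ι).ker :=
    (Subgroup.closure_le _).2 fun c hc => h U.1 hUW c hc
  rw [hS] at h1
  exact h1 (Subgroup.mem_top c)

/-- An ideal of the ring of sections over an affine open extends to an ideal sheaf. -/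
theorem exists_ideal [IsLocallyNoetherian X] {U : X.Opens} (hU : IsAffineOpen U)
    (a : Ideal Γ(X, U)) : ∃ I : X.IdealSheafData, I.ideal ⟨U, hU⟩ = a := by
  let φ : Γ(X, U) ⟶ CommRingCat.of (Γ(X, U) ⧸ a) := CommRingCat.ofHom (Ideal.Quotient.mk a)
  let f : Spec (CommRingCat.of (Γ(X, U) ⧸ a)) ⟶ X := Spec.map φ ≫ hU.fromSpec
  have hf : f ⁻¹ᵁ U = ⊤ := by
    change (Spec.map φ) ⁻¹ᵁ (hU.fromSpec ⁻¹ᵁ U) = ⊤
    rw [hU.fromSpec_preimage_self]; rfl
  have key : f.appLE U ⊤ hf.ge = φ ≫ (Scheme.ΓSpecIso _).inv := by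
    rw [Scheme.ΓSpecIso_inv_naturality, Scheme.Hom.comp_appLE, hU.fromSpec_app_self,
      Category.assoc, Scheme.Hom.map_appLE]
    congr 1
  refine ⟨f.ker, ?_⟩
  rw [Scheme.Hom.ker_apply]
  ext r
  rw [RingHom.mem_ker]
  have h0 : IsIso (homOfLE hf.ge) := by
    rw [show homOfLE hf.ge = eqToHom hf.symm from Subsingleton.elim _ _]
    infer_instance
  have h1 : (f.app U).hom r = 0 ↔ (f.appLE U ⊤ hf.ge).hom r = 0 := by
    rw [Scheme.Hom.appLE, CommRingCat.hom_comp, RingHom.comp_apply]
    exact (map_eq_zero_iff _ (ConcreteCategory.bijective_of_isIso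
      ((Spec _).presheaf.map (homOfLE hf.ge).op)).1).symm
  rw [h1, key, CommRingCat.hom_comp, RingHom.comp_apply]
  exact (map_eq_zero_iff _ (ConcreteCategory.bijective_of_isIso (Scheme.ΓSpecIso _).inv).1).trans
    Ideal.Quotient.eq_zero_iff_mem

/-- The ring of functions on an affine open over which all invertible modules are trivial. -/
theorem isPrincipalIdealRing [IsIntegral X] [IsLocallyNoetherian X]
    (hX : ∀ x : X, IsPrincipalIdealRing (X.presheaf.stalk x)) (U : X.affineOpens)
    (hη : genericPoint X ∈ U.1) (hU : ∀ c : Pic X, pull U.1.ι c = 1) : IsPrincipalIdealRing Γ(X, U.1) where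
  principal P := by
    obtain ⟨I, hI⟩ := exists_ideal U.2 P
    by_cases hP : P = ⊥
    · rw [hP]
      exact ⟨⟨0, by simp⟩⟩
    have hsupp : I.support ≠ ⊤ := by
      intro h
      apply hP
      rw [eq_bot_iff]
      intro f hf
      have h1 : genericPoint X ∈ I.support := by rw [h]; trivial
      rw [Scheme.IdealSheafData.mem_support_iff_of_mem (U := U) hη] at h1
      have h2 : genericPoint X ∉ X.basicOpen f :=
        (Scheme.mem_zeroLocus_iff _ _ _).1 h1 f (hI.symm ▸ hf)
      rw [Submodule.mem_bot, ← basicOpen_eq_bot_iff]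
      by_contra h3
      have h4 : ((X.basicOpen f : X.Opens) : Set X).Nonempty := by
        rw [Set.nonempty_iff_ne_empty]
        intro h5
        exact h3 (SetLike.coe_injective h5)
      exact h2 ((genericPoint_spec X).mem_open_set_iff (X.basicOpen f).isOpen |>.2 (by simpa using h4))
    have hE := K322.BasePt.isEff_of_support_ne hX I hsupp
    obtain ⟨s, hs⟩ := exists_isGen_of_pull (isInvertible_idealMod hE) (hU _)
    have hg := genOn_of_isGen hs
    have h1 := (hg U le_rfl).2
    rw [show I.ideal U = P from hI] at h1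
    exact ⟨⟨_, h1⟩⟩

end Open

section Units

/-- Units of a geometrically integral finitely generated algebra modulo constants. -/
theorem fg_units (F D K : Type u) [Field F] [CommRing D] [IsDomain D] [Field K] [Algebra F D] [Algebra D K]
    [Algebra F K] [IsScalarTower F D K] [IsFractionRing D K] [Algebra.FiniteType F D]
    (hD : ∀ (E : Type u) [Field E] [Algebra F E], IsDomain (D ⊗[F] E)) :
    Group.FG (Dˣ ⧸ (Units.map (algebraMap F D : F →* D)).range) := by
  obtain ⟨n, φ, hφ⟩ := CurvesA.UnitThm.exists_hom F D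
  refine S0215.fg_of_hom φ _ fun u hu => ?_
  have h1 : IsIntegral F (u : D) := hφ u hu
  have h2 : IsAlgebraic F (algebraMap D K (u : D)) := (h1.map (IsScalarTower.toAlgHom F D K)).isAlgebraic
  obtain ⟨c, hc⟩ := K975.GeoInt.mem_range_of_isDomain (B := D) hD h2
  rw [IsScalarTower.algebraMap_apply F D K] at hc
  have h3 : algebraMap F D c = (u : D) := IsFractionRing.injective D K hc
  have hc0 : c ≠ 0 := by
    rintro rfl
    rw [map_zero] at h3
    exact u.ne_zero h3.symm
  refine ⟨Units.mk0 c hc0, ?_⟩
  ext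
  exact h3

end Units

open Groth.Agent.MultTori.K441 in
/-- The main statement, from the finite generation of the Picard group. -/
theorem exists_pid (F : Type u) [Field F]
    (C : Over (Spec (CommRingCat.of F))) (hC : Curve.IsSmoothProperCurve F C.left C.hom)
    [GeometricallyIntegral C.hom] [IsIntegral C.left] (hfg : Group.FG (Pic C.left))
    (K : Type u) [Field K] [Algebra F K] (hK : IsFF F C K) :
    ∃ (D : Type u) (_ : CommRing D) (_ : IsDomain D) (_ : Algebra F D) (_ : Algebra D K)
      (_ : IsScalarTower F D K), IsFractionRing D K ∧ Algebra.FiniteType F D ∧ IsPrincipalIdealRing D ∧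
      (∀ (E : Type u) [Field E] [Algebra F E], IsDomain (E ⊗[F] D)) ∧
      Group.FG (Dˣ ⧸ (Units.map (algebraMap F D : F →* D)).range) := by
  obtain ⟨e, he⟩ := hK
  have hp : IsProper C.hom := hC.1
  have hN : IsLocallyNoetherian C.left := LocallyOfFiniteType.isLocallyNoetherian C.hom
  obtain ⟨U, hη, hU⟩ := exists_open hfg
  have hne : Nonempty U.1 := ⟨⟨_, hη⟩⟩
  let j : Spec Γ(C.left, U.1) ⟶ C.left := U.2.fromSpec
  have hj : IsOpenImmersion j := U.2.isOpenImmersion_fromSpec
  let φ : CommRingCat.of F ⟶ Γ(C.left, U.1) := Spec.preimage (j ≫ C.hom)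
  have hφ : Spec.map φ = j ≫ C.hom := Spec.map_preimage _
  let _ : Algebra F Γ(C.left, U.1) := φ.hom.toAlgebra
  have hφ' : j ≫ C.hom = Spec.map (CommRingCat.ofHom (algebraMap F Γ(C.left, U.1))) := hφ.symm
  have hdom : ∀ (E : Type u) [Field E] [Algebra F E], IsDomain (Γ(C.left, U.1) ⊗[F] E) := fun E _ _ =>
    K975.GeoInt.isDomain_of_spec C.hom j hφ' E
  let ψ : C.left.functionField →+* K := e.hom.hom
  let alg : Algebra Γ(C.left, U.1) K := (ψ.comp (C.left.germToFunctionField U.1).hom).toAlgebra
  have hfr : IsFractionRing Γ(C.left, U.1) C.left.functionField :=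
    functionField_isFractionRing_of_isAffineOpen C.left U.1 U.2
  let E' : C.left.functionField ≃ₐ[Γ(C.left, U.1)] K :=
    AlgEquiv.ofRingEquiv (f := e.commRingCatIsoToRingEquiv) (fun r => rfl)
  have hfr' : IsFractionRing Γ(C.left, U.1) K := IsLocalization.isLocalization_of_algEquiv _ E'
  have hst : IsScalarTower F Γ(C.left, U.1) K := by
    refine IsScalarTower.of_algebraMap_eq fun c => ?_
    have h1 : Spec.map (φ ≫ C.left.germToFunctionField U.1 ≫ e.hom) =
        Spec.map (CommRingCat.ofHom (algebraMap F K)) := by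
      rw [← he, Spec.map_comp, Spec.map_comp, hφ, Category.assoc, ← U.2.fromSpecStalk_eq_fromSpecStalk hη]
      rfl
    have h2 := Spec.map_injective h1
    exact (congrArg (fun g => g.hom c) h2).symm
  have hft : Algebra.FiniteType F Γ(C.left, U.1) := by
    have h1 : LocallyOfFiniteType (Spec.map φ) := by rw [hφ]; infer_instance
    exact (HasRingHomProperty.Spec_iff (P := @LocallyOfFiniteType)).1 h1
  refine ⟨Γ(C.left, U.1), inferInstance, inferInstance, inferInstance, alg, hst, hfr', hft,
    isPrincipalIdealRing (K321.SmoothPid.isPrincipalIdealRing hC) U hη hU, fun E _ _ => ?_,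
    fg_units F Γ(C.left, U.1) K hdom⟩
  have := hdom E
  exact (Algebra.TensorProduct.comm F E Γ(C.left, U.1)).toMulEquiv.isDomain _

end Groth.Agent.MultTori.K318.PidOpen

namespace Groth.Agent.MultTori.K318.PidCurve

open CategoryTheory CategoryTheory.Limits AlgebraicGeometry TensorProduct
open Groth.Agent.MultTori.K441

/-- RQ-D1. -/
theorem exists_pid_of_curve (F : Type u) [Field F]
    (hMW : ∀ (F' : Type u) [Field F'] [Algebra F F'] [FiniteDimensional F F'], MW F')
    (C : Over (Spec (CommRingCat.of F))) (hC : Curve.IsSmoothProperCurve F C.left C.hom)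
    [GeometricallyIntegral C.hom] [IsIntegral C.left] (K : Type u) [Field K] [Algebra F K] (hK : IsFF F C K) :
    ∃ (D : Type u) (_ : CommRing D) (_ : IsDomain D) (_ : Algebra F D) (_ : Algebra D K)
      (_ : IsScalarTower F D K), IsFractionRing D K ∧ Algebra.FiniteType F D ∧ IsPrincipalIdealRing D ∧
      (∀ (E : Type u) [Field E] [Algebra F E], IsDomain (E ⊗[F] D)) ∧
      Group.FG (Dˣ ⧸ (Units.map (algebraMap F D : F →* D)).range) := by
  refine PidOpen.exists_pid F C hC ?_ K hK
  let _ : C.left.Over (Spec (CommRingCat.of F)) := ⟨C.hom⟩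
  have h : GeometricallyIntegral (C.left ↘ Spec (CommRingCat.of F)) := ‹GeometricallyIntegral C.hom›
  exact PicFG.fg_pic Sga7.H780.JK.jk F hMW C.left hC

end Groth.Agent.MultTori.K318.PidCurve
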